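import Groth.Agent.EtPoints11.Pt
import Groth.Agent.MorLib.GeomFibre
import Mathlib.AlgebraicGeometry.Morphisms.FormallyUnramified

/-! points of the small etale site are geometric points -/

universe u

open CategoryTheory CategoryTheory.Limits AlgebraicGeometry Opposite Topology

namespace Groth.Agent.EtPoints11

open EtFound (ptOf ptOf_map hom_ptOf)

set_option backward.isDefEq.respectTransparency.types false

variable {S : Scheme.{u}} (p : GrothendieckTopology.Point.{u} S.smallEtaleTopology)

theorem locallyQuasiFinite_hom (U : S.Etale) : LocallyQuasiFinite U.hom := by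
  let f : U.left ⟶ S := U.hom
  have : AlgebraicGeometry.Etale f := U.prop
  suffices LocallyQuasiFinite f from this
  rw [HasRingHomProperty.iff_appLE (P := @LocallyQuasiFinite)]
  intro V W hVW
  have := HasRingHomProperty.appLE @AlgebraicGeometry.Etale f ‹_› V W hVW
  algebraize [(f.appLE V.1 W.1 hVW).hom]
  exact (inferInstance : Algebra.QuasiFinite Γ(S, V.1) Γ(U.left, W.1))

/-- the map to the final object -/
noncomputable def toTop (V : S.Etale) : V ⟶ EtCoh.top S := MorphismProperty.Over.homMk V.hom (Category.comp_id _)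

theorem hom_to_top_ext {V : S.Etale} (a b : V ⟶ EtCoh.top S) : a = b :=
  MorphismProperty.Over.Hom.ext (((Category.comp_id _).symm.trans (MorphismProperty.Over.w a)).trans
    ((MorphismProperty.Over.w b).symm.trans (Category.comp_id _)))

theorem nonempty_top : Nonempty (p.fiber.obj (EtCoh.top S)) := by
  haveI := p.isCofiltered
  obtain ⟨e⟩ := IsCofiltered.nonempty (C := p.fiber.Elements)
  exact ⟨p.fiber.map (toTop e.1) e.2⟩

theorem subsingleton_top : Subsingleton (p.fiber.obj (EtCoh.top S)) := ⟨fun a b => by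
  obtain ⟨Y, y, f, g, hf, hg⟩ := exists_cone p a b
  rw [← hf, ← hg, hom_to_top_ext f g]⟩

/-- the scheme point under the point -/
noncomputable def basePt : S := ptP (p := p) (nonempty_top p).some

variable {p}

theorem hom_ptP {V : S.Etale} (v : p.fiber.obj V) : V.hom.base (ptP v) = basePt p := by
  have h := ptP_map (p := p) (toTop V) v
  rw [(subsingleton_top p).elim (p.fiber.map (toTop V) v) (nonempty_top p).some] at h
  exact h.symm

/-- two maps agreeing at a geometric point agree on an open around it -/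
theorem exists_open_equalizer {Y W : S.Etale} (g g' : Y ⟶ W) {Ω : Type u} [Field Ω] [IsSepClosed Ω]
    {ξ : Spec (CommRingCat.of Ω) ⟶ S} (w : (Scheme.pointSmallEtale ξ).fiber.obj Y)
    (h : (Scheme.pointSmallEtale ξ).fiber.map g w = (Scheme.pointSmallEtale ξ).fiber.map g' w) :
    ∃ O : Y.left.Opens, ptOf w ∈ O ∧ opι Y O ≫ g = opι Y O ≫ g' := by
  haveI : AlgebraicGeometry.Etale W.hom := W.prop
  let d : Y.left ⟶ pullback W.hom W.hom := pullback.lift g.left g'.left
    ((MorphismProperty.Over.w g).trans (MorphismProperty.Over.w g').symm)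
  let D := pullback.diagonal W.hom
  let wl : Spec (CommRingCat.of Ω) ⟶ Y.left := w.left
  let gw : Spec (CommRingCat.of Ω) ⟶ W.left := wl ≫ g.left
  refine ⟨d ⁻¹ᵁ D.opensRange, ⟨gw.base (default : Spec (CommRingCat.of Ω)), ?_⟩, ?_⟩
  · have e : gw ≫ D = wl ≫ d := by
      refine pullback.hom_ext ?_ ?_
      · rw [Category.assoc, pullback.diagonal_fst, Category.comp_id, Category.assoc]
        exact congrArg (wl ≫ ·) (pullback.lift_fst _ _ _).symm
      · rw [Category.assoc, pullback.diagonal_snd, Category.comp_id, Category.assoc]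
        exact (congr(($h).left) : gw = wl ≫ g'.left).trans (congrArg (wl ≫ ·) (pullback.lift_snd _ _ _).symm)
    exact (Scheme.Hom.comp_apply gw D (default : Spec (CommRingCat.of Ω))).symm.trans
      ((congrArg (fun k : Spec (CommRingCat.of Ω) ⟶ pullback W.hom W.hom => k.base (default : Spec (CommRingCat.of Ω))) e).trans
        (Scheme.Hom.comp_apply wl d _))
  · obtain ⟨l, hl⟩ : ∃ l, l ≫ D = (d ⁻¹ᵁ D.opensRange).ι ≫ d := ⟨IsOpenImmersion.lift D _ (by
        rintro _ ⟨z, rfl⟩
        rw [Scheme.Hom.comp_apply]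
        exact z.2), IsOpenImmersion.lift_fac _ _ _⟩
    refine MorphismProperty.Over.Hom.ext ?_
    show (d ⁻¹ᵁ D.opensRange).ι ≫ g.left = (d ⁻¹ᵁ D.opensRange).ι ≫ g'.left
    have h1 : l = (d ⁻¹ᵁ D.opensRange).ι ≫ g.left := by
      have := congrArg (fun k => k ≫ pullback.fst W.hom W.hom) hl
      simpa only [Category.assoc, D, d, pullback.diagonal_fst, pullback.lift_fst, Category.comp_id] using this
    have h2 : l = (d ⁻¹ᵁ D.opensRange).ι ≫ g'.left := by
      have := congrArg (fun k => k ≫ pullback.snd W.hom W.hom) hl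
      simpa only [Category.assoc, D, d, pullback.diagonal_snd, pullback.lift_snd, Category.comp_id] using this
    exact h1.symm.trans h2

variable {Ω : Type u} [Field Ω] [IsAlgClosed Ω] {ξ : Spec (CommRingCat.of Ω) ⟶ S}

omit p in
theorem exists_geom {V : S.Etale} (z : V.left) (hz : V.hom.base z = ξ.base default) :
    ∃ w : (Scheme.pointSmallEtale ξ).fiber.obj V, ptOf w = z := by
  obtain ⟨w, hw⟩ := Scheme.pointSmallEtaleFiberObjToPreimage_surjective ξ rfl V ⟨z, hz⟩
  exact ⟨w, congrArg Subtype.val hw⟩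

omit p in
theorem finite_geom {V : S.Etale} (x : V.left) :
    Finite {u : (Scheme.pointSmallEtale ξ).fiber.obj V // ptOf u = x} := by
  by_cases hx : V.hom.base x = ξ.base default
  · haveI : AlgebraicGeometry.Etale V.hom := V.prop
    haveI := locallyQuasiFinite_hom V
    haveI : Finite {δ : Spec (CommRingCat.of Ω) ⟶ V.left // δ ≫ V.hom = ξ ∧ MorLib.GF.pt δ = x} :=
      (MorLib.GF.lifts_at V.hom ξ x (hx.trans (congrArg ξ.base (Subsingleton.elim (α := Spec (CommRingCat.of Ω)) _ _)))).1
    refine Finite.of_injective (β := {δ : Spec (CommRingCat.of Ω) ⟶ V.left // δ ≫ V.hom = ξ ∧ MorLib.GF.pt δ = x})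
      (fun u => ⟨(u.1.left : Spec (CommRingCat.of Ω) ⟶ V.left), CategoryTheory.Over.w u.1,
        (congrArg (u.1.left : Spec (CommRingCat.of Ω) ⟶ V.left).base (Subsingleton.elim (α := Spec (CommRingCat.of Ω)) _ _)).trans u.2⟩)
      fun a b h => Subtype.ext (CategoryTheory.Over.OverMorphism.ext (congrArg Subtype.val h :))
  · haveI : IsEmpty {u : (Scheme.pointSmallEtale ξ).fiber.obj V // ptOf u = x} :=
      ⟨fun u => hx (u.2 ▸ hom_ptOf u.1)⟩
    infer_instance

/-- finitely many elements over one point give as many geometric points over it -/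
theorem exists_tuple (hξ : ξ.base default = basePt p) {V : S.Etale} {ι : Type} [Fintype ι] (v : ι → p.fiber.obj V)
    (x : V.left) (hx : ∀ i, ptP (v i) = x) :
    ∃ a : ι → {u : (Scheme.pointSmallEtale ξ).fiber.obj V // ptOf u = x},
      ∀ i j, a i = a j → v i = v j := by
  classical
  haveI := p.isCofiltered
  obtain ⟨c, hc⟩ := IsCofiltered.inf_objs_exists (Finset.univ.image fun i => p.fiber.elementsMk V (v i))
  let k : ∀ i, c ⟶ p.fiber.elementsMk V (v i) := fun i => (hc (Finset.mem_image_of_mem _ (Finset.mem_univ i))).some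
  obtain ⟨w, hw⟩ := exists_geom (ξ := ξ) (ptP c.2) ((hom_ptP c.2).trans hξ.symm)
  refine ⟨fun i => ⟨(Scheme.pointSmallEtale ξ).fiber.map (k i).1 w, ?_⟩, fun i j h => ?_⟩
  · rw [ptOf_map, hw, ← ptP_map]
    exact (congrArg ptP (k i).2).trans (hx i)
  · obtain ⟨O, hwO, e⟩ := exists_open_equalizer (k i).1 (k j).1 w (congrArg Subtype.val h)
    rw [hw] at hwO
    obtain ⟨o, ho⟩ := (ptP_mem c.2 O).1 hwO
    have : p.fiber.map (k i).1 c.2 = p.fiber.map (k j).1 c.2 :=
      (congrArg (fun z => p.fiber.map (k i).1 z) ho.symm).trans ((Functor.map_comp_apply _ _ _ _).symm.trans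
        ((congrArg (fun q => p.fiber.map q o) e).trans ((Functor.map_comp_apply _ _ _ _).trans
          (congrArg (fun z => p.fiber.map (k j).1 z) ho))))
    exact (k i).2.symm.trans (this.trans (k j).2)

theorem exists_over (hξ : ξ.base default = basePt p) {V : S.Etale} (x : V.left) (hx : V.hom.base x = basePt p) :
    ∃ v : p.fiber.obj V, ptP v = x := by
  haveI : AlgebraicGeometry.Etale V.hom := V.prop
  haveI := locallyQuasiFinite_hom V
  -- an open around `x` meeting the fibre only at `x`
  obtain ⟨O, hxO, hO⟩ : ∃ O : V.left.Opens, x ∈ O ∧ ∀ z ∈ O, V.hom.base z = basePt p → z = x := by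
    haveI := (V.hom.isDiscrete_preimage_singleton (basePt p)).to_subtype
    obtain ⟨A, hA, hA'⟩ := isOpen_induced_iff.1
      (isOpen_discrete ({⟨x, hx⟩} : Set ↥(V.hom.base ⁻¹' {basePt p})))
    refine ⟨⟨A, hA⟩, hA'.ge rfl, fun z hz hzs => ?_⟩
    exact congrArg Subtype.val (hA'.le (show (⟨z, hzs⟩ : ↥(V.hom.base ⁻¹' {basePt p})) ∈ _ from hz) :)
  let Im : S.Opens := ⟨Set.range (O.ι ≫ V.hom).base, (O.ι ≫ V.hom).isOpenMap.isOpen_range⟩
  obtain ⟨o, -⟩ := (ptP_mem (nonempty_top p).some (Im : (EtCoh.top S).left.Opens)).1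
    ⟨⟨x, hxO⟩, (Scheme.Hom.comp_apply _ _ _).trans hx⟩
  obtain ⟨q, hq⟩ := exists_factor_opι (V := EtCoh.top S) (toTop (opEt V O)) Im fun z => ⟨z, rfl⟩
  let R : Sieve (opEt (EtCoh.top S) Im) := Sieve.generate (Presieve.singleton q)
  have hR : R ∈ S.smallEtaleTopology _ := by
    refine (EtFound.mem_topology_iff R).2 fun z => ?_
    obtain ⟨z', hz'⟩ := z.2
    refine ⟨opEt V O, q, z', Sieve.le_generate _ _ _ (Presieve.singleton_self q), Subtype.ext ?_⟩
    have e := congrArg (fun k : opEt V O ⟶ EtCoh.top S => k.left.base z') hq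
    exact ((Scheme.Hom.comp_apply q.left Im.ι z').symm.trans e).trans hz'
  obtain ⟨Y, a, ⟨Y', b, c, hc, -⟩, y, -⟩ := p.jointly_surjective R hR o
  cases hc
  refine ⟨p.fiber.map (opι V O) (p.fiber.map b y), hO _ ?_ (hom_ptP _)⟩
  rw [ptP_map]
  exact (ptP (p.fiber.map b y)).2

theorem finite_over (hξ : ξ.base default = basePt p) {V : S.Etale} (x : V.left) :
    Finite {v : p.fiber.obj V // ptP v = x} := by
  haveI := finite_geom (ξ := ξ) x
  by_contra h
  rw [not_finite_iff_infinite] at h
  let n := Nat.card {u : (Scheme.pointSmallEtale ξ).fiber.obj V // ptOf u = x}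
  let f : Fin (n + 1) ↪ {v : p.fiber.obj V // ptP v = x} :=
    (Fin.valEmbedding).trans (Infinite.natEmbedding _)
  obtain ⟨a, ha⟩ := exists_tuple hξ (fun i => (f i).1) x fun i => (f i).2
  have := Nat.card_le_card_of_injective a fun i j h => f.injective (Subtype.ext (ha i j h))
  simp only [Nat.card_eq_fintype_card, Fintype.card_fin] at this
  omega

/-- the candidates at each geometric point -/
noncomputable def cands (p : GrothendieckTopology.Point.{u} S.smallEtaleTopology) (ξ : Spec (CommRingCat.of Ω) ⟶ S) :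
    (Scheme.pointSmallEtale ξ).fiber.Elements ⥤ Type u where
  obj e := {v : p.fiber.obj e.1 // ptP v = ptOf e.2}
  map {e e'} a := TypeCat.ofHom fun v => ⟨p.fiber.map a.1 v.1, by
    rw [ptP_map, v.2, ← ptOf_map]
    exact congrArg ptOf a.2⟩
  map_id e := by
    ext v
    exact Functor.map_id_apply p.fiber e.1 v.1
  map_comp a b := by
    ext v
    exact Functor.map_comp_apply p.fiber a.1 b.1 v.1

/-- points of the small etale site are geometric -/
theorem exists_geometric (p : GrothendieckTopology.Point.{u} S.smallEtaleTopology) :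
    ∃ (Ω : Type u) (_ : Field Ω) (_ : IsSepClosed Ω) (ξ : Spec (CommRingCat.of Ω) ⟶ S),
      Nonempty (p.fiber ≅ (Scheme.pointSmallEtale ξ).fiber) := by
  classical
  let Ω := AlgebraicClosure (S.residueField (basePt p))
  let ξ : Spec (CommRingCat.of Ω) ⟶ S :=
    Spec.map (CommRingCat.ofHom (algebraMap (S.residueField (basePt p)) Ω)) ≫ S.fromSpecResidueField (basePt p)
  have hξ : ξ.base default = basePt p :=
    (Scheme.Hom.comp_apply _ _ _).trans (Scheme.fromSpecResidueField_apply _ _)
  refine ⟨Ω, inferInstance, inferInstance, ξ, ?_⟩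
  haveI := (Scheme.pointSmallEtale ξ).isCofiltered
  haveI : ∀ e, Finite ((cands p ξ).obj e) := fun e => finite_over hξ _
  haveI : ∀ e, Nonempty ((cands p ξ).obj e) := fun e => by
    obtain ⟨v, hv⟩ := exists_over hξ (ptOf e.2) ((hom_ptOf e.2).trans hξ)
    exact ⟨⟨v, hv⟩⟩
  obtain ⟨σ, hσ⟩ := nonempty_sections_of_finite_cofiltered_system (cands p ξ)
  let F := (Scheme.pointSmallEtale ξ).fiber
  let θ : ∀ V, F.obj V → p.fiber.obj V := fun V w => (σ (F.elementsMk V w)).1
  have hθ : ∀ {V W : S.Etale} (g : V ⟶ W) (w : F.obj V), p.fiber.map g (θ V w) = θ W (F.map g w) := fun g w =>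
    congrArg Subtype.val (hσ (CategoryOfElements.homMk (F.elementsMk _ w) (F.elementsMk _ (F.map g w)) g rfl))
  have hpt : ∀ {V : S.Etale} (w : F.obj V), ptP (θ V w) = ptOf w := fun w => (σ (F.elementsMk _ w)).2
  have hinj : ∀ V, Function.Injective (θ V) := fun V u u' h => by
    obtain ⟨c, a, b, -⟩ := IsCofilteredOrEmpty.cone_objs (F.elementsMk V u) (F.elementsMk V u')
    have h' : p.fiber.map a.1 (θ c.1 c.2) = p.fiber.map b.1 (θ c.1 c.2) := by
      rw [hθ, hθ, a.2, b.2]
      exact h
    obtain ⟨Y', y', k, hk, e⟩ := exists_equalize p (θ c.1 c.2) a.1 b.1 h'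
    have hz : ptOf c.2 = k.left.base (ptP y') := by rw [← ptP_map, hk, hpt]
    obtain ⟨w', hw'⟩ := exists_geom (ξ := ξ) (ptP y') ((hom_ptP y').trans hξ.symm)
    obtain ⟨O, hwO, eO⟩ := exists_open_equalizer a.1 b.1 (F.map k w') (by
      rw [← Functor.map_comp_apply, e, Functor.map_comp_apply])
    rw [ptOf_map, hw', ← hz] at hwO
    obtain ⟨l, hl⟩ := EtFound.exists_lift_open (c.2.left : Spec (CommRingCat.of Ω) ⟶ c.1.left) O fun (t : Spec (CommRingCat.of Ω)) => by
      rw [Subsingleton.elim (α := Spec (CommRingCat.of Ω)) t default]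
      exact hwO
    let o : F.obj (opEt c.1 O) := CategoryTheory.Over.homMk l
      ((Category.assoc _ _ _).symm.trans ((congrArg (· ≫ c.1.hom) hl).trans (CategoryTheory.Over.w c.2)))
    have ho : F.map (opι c.1 O) o = c.2 := CategoryTheory.Over.OverMorphism.ext hl
    refine a.2.symm.trans ((?_ : F.map a.1 c.2 = F.map b.1 c.2).trans b.2)
    exact (congrArg (fun z => F.map a.1 z) ho.symm).trans ((Functor.map_comp_apply _ _ _ _).symm.trans
        ((congrArg (fun q => F.map q o) eO).trans ((Functor.map_comp_apply _ _ _ _).trans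
          (congrArg (fun z => F.map b.1 z) ho))))
  have hbij : ∀ V, Function.Bijective (θ V) := fun V => ⟨hinj V, fun v => by
    by_contra hne
    push Not at hne
    haveI := finite_geom (ξ := ξ) (ptP v)
    obtain ⟨m, ⟨e⟩⟩ := Finite.exists_equiv_fin {u : F.obj V // ptOf u = ptP v}
    obtain ⟨a, ha⟩ := exists_tuple hξ (ι := Option (Fin m)) (fun i => i.elim v fun l => θ V (e.symm l).1) (ptP v)
      (by rintro (_ | l); exacts [rfl, (hpt _).trans (e.symm l).2])
    have hi : Function.Injective a := fun i j h => by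
      have := ha i j h
      rcases i with _ | i <;> rcases j with _ | j
      · rfl
      · exact absurd this.symm (hne _)
      · exact absurd this (hne _)
      · exact congrArg some (e.symm.injective (Subtype.ext (hinj V this)))
    have := Fintype.card_le_of_injective (fun i => e (a i)) (e.injective.comp hi)
    simp at this⟩
  exact ⟨(NatIso.ofComponents (fun V => (Equiv.ofBijective _ (hbij V)).toIso) fun {V W} g => by
    ext w
    exact (hθ g w).symm).symm⟩

end Groth.Agent.EtPoints11
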