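import Groth.Agent.EtFound.PointHom
import Mathlib.CategoryTheory.Filtered.Basic

/-! the underlying point of an element of a point of the small etale site -/

universe u

open CategoryTheory CategoryTheory.Limits AlgebraicGeometry Opposite Topology

namespace Groth.Agent.EtPoints11

set_option backward.isDefEq.respectTransparency.types false

variable {S : Scheme.{u}} (p : GrothendieckTopology.Point.{u} S.smallEtaleTopology)

/-- an open subscheme of an etale scheme -/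
noncomputable def opEt (V : S.Etale) (O : V.left.Opens) : S.Etale :=
  haveI : AlgebraicGeometry.Etale V.hom := V.prop
  Scheme.Etale.mk (O.ι ≫ V.hom)

/-- its inclusion -/
noncomputable def opι (V : S.Etale) (O : V.left.Opens) : opEt V O ⟶ V :=
  MorphismProperty.Over.homMk O.ι rfl

theorem exists_factor_opι {V Y : S.Etale} (a : Y ⟶ V) (O : V.left.Opens) (h : ∀ z, a.left.base z ∈ O) :
    ∃ q : Y ⟶ opEt V O, q ≫ opι V O = a := by
  obtain ⟨l, hl⟩ := EtFound.exists_lift_open a.left O h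
  exact ⟨MorphismProperty.Over.homMk l ((Category.assoc _ _ _).symm.trans
    ((congrArg (· ≫ V.hom) hl).trans (MorphismProperty.Over.w a))), MorphismProperty.Over.Hom.ext hl⟩

theorem exists_cone {V W : S.Etale} (v : p.fiber.obj V) (w : p.fiber.obj W) :
    ∃ (Y : S.Etale) (y : p.fiber.obj Y) (a : Y ⟶ V) (b : Y ⟶ W), p.fiber.map a y = v ∧ p.fiber.map b y = w := by
  haveI := p.isCofiltered
  obtain ⟨c, a, b, -⟩ := IsCofilteredOrEmpty.cone_objs (p.fiber.elementsMk V v) (p.fiber.elementsMk W w)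
  exact ⟨c.1, c.2, a.1, b.1, a.2, b.2⟩

theorem exists_equalize {Y W : S.Etale} (y : p.fiber.obj Y) (g g' : Y ⟶ W) (h : p.fiber.map g y = p.fiber.map g' y) :
    ∃ (Y' : S.Etale) (y' : p.fiber.obj Y') (k : Y' ⟶ Y), p.fiber.map k y' = y ∧ k ≫ g = k ≫ g' := by
  haveI := p.isCofiltered
  obtain ⟨c, k, hk⟩ := IsCofilteredOrEmpty.cone_maps
    (CategoryOfElements.homMk (p.fiber.elementsMk Y y) (p.fiber.elementsMk W (p.fiber.map g y)) g rfl)
    (CategoryOfElements.homMk (p.fiber.elementsMk Y y) (p.fiber.elementsMk W (p.fiber.map g y)) g' h.symm)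
  exact ⟨c.1, c.2, k.1, k.2, congrArg Subtype.val hk⟩

theorem exists_cone_square {V W T : S.Etale} (f : V ⟶ T) (g : W ⟶ T) (v : p.fiber.obj V) (w : p.fiber.obj W)
    (h : p.fiber.map f v = p.fiber.map g w) :
    ∃ (Y : S.Etale) (y : p.fiber.obj Y) (a : Y ⟶ V) (b : Y ⟶ W),
      p.fiber.map a y = v ∧ p.fiber.map b y = w ∧ a ≫ f = b ≫ g := by
  obtain ⟨Y, y, a, b, ha, hb⟩ := exists_cone p v w
  obtain ⟨Y', y', k, hk, e⟩ := exists_equalize p y (a ≫ f) (b ≫ g) (by
    rw [Functor.map_comp_apply, Functor.map_comp_apply, ha, hb, h])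
  refine ⟨Y', y', k ≫ a, k ≫ b, ?_, ?_, by rw [Category.assoc, e, Category.assoc]⟩
  · rw [Functor.map_comp_apply, hk, ha]
  · rw [Functor.map_comp_apply, hk, hb]

/-- an element comes from an open subscheme -/
def LiftsTo {V : S.Etale} (v : p.fiber.obj V) (O : V.left.Opens) : Prop :=
  ∃ o : p.fiber.obj (opEt V O), p.fiber.map (opι V O) o = v

variable {p}

theorem LiftsTo.of_factor {V Y : S.Etale} {y : p.fiber.obj Y} (a : Y ⟶ V) (O : V.left.Opens)
    (h : ∀ z, a.left.base z ∈ O) : LiftsTo p (p.fiber.map a y) O := by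
  obtain ⟨q, hq⟩ := exists_factor_opι a O h
  exact ⟨p.fiber.map q y, by rw [← Functor.map_comp_apply, hq]⟩

theorem LiftsTo.mono {V : S.Etale} {v : p.fiber.obj V} {O O' : V.left.Opens} (h : LiftsTo p v O) (hle : O ≤ O') :
    LiftsTo p v O' := by
  obtain ⟨o, rfl⟩ := h
  exact LiftsTo.of_factor (opι V O) O' fun z => hle z.2

theorem liftsTo_top {V : S.Etale} (v : p.fiber.obj V) : LiftsTo p v ⊤ := by
  have h := LiftsTo.of_factor (p := p) (y := v) (𝟙 V) ⊤ fun _ => trivial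
  rwa [Functor.map_id_apply] at h

theorem LiftsTo.inter {V : S.Etale} {v : p.fiber.obj V} {O O' : V.left.Opens} (h : LiftsTo p v O)
    (h' : LiftsTo p v O') : LiftsTo p v (O ⊓ O') := by
  obtain ⟨o, ho⟩ := h
  obtain ⟨o', ho'⟩ := h'
  obtain ⟨Y, y, a, b, ha, -, e⟩ := exists_cone_square p (opι V O) (opι V O') o o' (ho.trans ho'.symm)
  rw [← ho, ← ha, ← Functor.map_comp_apply]
  refine LiftsTo.of_factor _ _ fun z => ⟨?_, ?_⟩
  · exact Set.mem_of_eq_of_mem (Scheme.Hom.comp_apply a.left O.ι z) (a.left.base z).2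
  · rw [e]
    exact Set.mem_of_eq_of_mem (Scheme.Hom.comp_apply b.left O'.ι z) (b.left.base z).2

theorem exists_liftsTo_of_cover {V : S.Etale} {v : p.fiber.obj V} {ι : Type u} (W : ι → V.left.Opens)
    (O : V.left.Opens) (hO : ∀ z ∈ O, ∃ i, z ∈ W i) (h : LiftsTo p v O) : ∃ i, LiftsTo p v (W i) := by
  obtain ⟨o, rfl⟩ := h
  let R : Sieve (opEt V O) :=
    { arrows := fun Y a => ∃ i, ∀ z, (a ≫ opι V O).left.base z ∈ W i
      downward_closed := by
        rintro Y Z a ⟨i, hi⟩ b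
        exact ⟨i, fun z => by
          rw [Category.assoc]
          exact Set.mem_of_eq_of_mem (Scheme.Hom.comp_apply b.left (a ≫ opι V O).left z) (hi _)⟩ }
  have hR : R ∈ S.smallEtaleTopology (opEt V O) := by
    refine (EtFound.mem_topology_iff R).2 fun z => ?_
    obtain ⟨i, hi⟩ := hO _ z.2
    refine ⟨opEt (opEt V O) (O.ι ⁻¹ᵁ W i), opι _ _, ⟨z, hi⟩, ⟨i, fun w => ?_⟩, rfl⟩
    exact Set.mem_of_eq_of_mem (Scheme.Hom.comp_apply (O.ι ⁻¹ᵁ W i).ι O.ι w) w.2
  obtain ⟨Y, a, ⟨i, hi⟩, y, hy⟩ := p.jointly_surjective R hR o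
  refine ⟨i, ?_⟩
  rw [← hy, ← Functor.map_comp_apply]
  exact LiftsTo.of_factor _ _ hi

/-- the underlying point of an element -/
theorem exists_pt {V : S.Etale} (v : p.fiber.obj V) : ∃ x : V.left, ∀ O : V.left.Opens, x ∈ O ↔ LiftsTo p v O := by
  let O₀ : V.left.Opens := sSup {O | ¬ LiftsTo p v O}
  have hO₀ : ¬ LiftsTo p v O₀ := fun h => by
    obtain ⟨i, hi⟩ := exists_liftsTo_of_cover (fun O : {O : V.left.Opens // ¬ LiftsTo p v O} => O.1) O₀
      (fun z hz => by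
        obtain ⟨O, hO, hzO⟩ := TopologicalSpace.Opens.mem_sSup.1 hz
        exact ⟨⟨O, hO⟩, hzO⟩) h
    exact i.2 hi
  have key : ∀ O : V.left.Opens, ((O₀ : Set V.left)ᶜ ∩ O).Nonempty ↔ LiftsTo p v O := fun O => by
    refine ⟨fun ⟨z, hz, hzO⟩ => ?_, fun h => ?_⟩
    · by_contra hO
      exact hz (TopologicalSpace.Opens.mem_sSup.2 ⟨O, hO, hzO⟩)
    · by_contra hne
      exact hO₀ (h.mono fun z hz => by
        by_contra hz'
        exact hne ⟨z, hz', hz⟩)
  have hC : IsIrreducible (O₀ : Set V.left)ᶜ := by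
    refine ⟨?_, fun A B hA hB ⟨a, ha⟩ ⟨b, hb⟩ => ?_⟩
    · obtain ⟨z, hz, -⟩ := (key ⊤).2 (liftsTo_top v)
      exact ⟨z, hz⟩
    · obtain ⟨z, hz⟩ := (key _).2 (((key ⟨A, hA⟩).1 ⟨a, ha⟩).inter ((key ⟨B, hB⟩).1 ⟨b, hb⟩))
      exact ⟨z, hz.1, hz.2.1, hz.2.2⟩
  have hcl : IsClosed (O₀ : Set V.left)ᶜ := O₀.2.isClosed_compl
  refine ⟨hC.genericPoint, fun O => ?_⟩
  have hg := hC.isGenericPoint_genericPoint hcl
  exact (hg.mem_open_set_iff O.2).trans (key O)

/-- the underlying point of an element -/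
noncomputable def ptP {V : S.Etale} (v : p.fiber.obj V) : V.left := (exists_pt v).choose

theorem ptP_mem {V : S.Etale} (v : p.fiber.obj V) (O : V.left.Opens) : ptP v ∈ O ↔ LiftsTo p v O :=
  (exists_pt v).choose_spec O

theorem ptP_map {V W : S.Etale} (f : V ⟶ W) (v : p.fiber.obj V) : ptP (p.fiber.map f v) = f.left.base (ptP v) := by
  refine Inseparable.eq (inseparable_iff_forall_isOpen.2 fun A hA => ?_)
  let O : W.left.Opens := ⟨A, hA⟩
  refine Iff.trans (ptP_mem _ O) (Iff.trans ⟨fun ⟨o, ho⟩ => ?_, fun ⟨o, ho⟩ => ?_⟩ (ptP_mem v (f.left ⁻¹ᵁ O)).symm)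
  · obtain ⟨Y, y, a, b, ha, -, e⟩ := exists_cone_square p f (opι W O) v o ho.symm
    rw [← ha]
    refine LiftsTo.of_factor a _ fun z => ?_
    show f.left.base (a.left.base z) ∈ O
    rw [← Scheme.Hom.comp_apply]
    rw [show a.left ≫ f.left = b.left ≫ O.ι from congrArg (fun q => q.left) e, Scheme.Hom.comp_apply]
    exact (b.left.base z).2
  · rw [← ho, ← Functor.map_comp_apply]
    exact LiftsTo.of_factor _ _ fun z =>
      Set.mem_of_eq_of_mem (Scheme.Hom.comp_apply (f.left ⁻¹ᵁ O).ι f.left z) z.2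

end Groth.Agent.EtPoints11
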